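import Cfsg.Agent.Lib.JThree.Search
import Cfsg.Agent.Lib.JThree.Table

/-!
With the number of involutions known, three of the degrees of the exceptional characters are known.
-/

set_option autoImplicit false
set_option maxRecDepth 100000
set_option Elab.async false

namespace CfsgLib.JThree

/-- A candidate degree in a residue class. -/
def candU (c i : ℕ) : ℤ := (c : ℤ) + 128 * ((i : ℤ) - 56)

/-- A possible signed degree of a constituent. -/
def okU (r : ℕ × ℕ) (u : ℤ) : Bool :=
  Nat.blt r.1 u.natAbs && Nat.ble 2 u.natAbs && Nat.beq (50232960 % u.natAbs) 0 &&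
    decide ((u - (r.2 : ℤ)) % 128 = 0)

/-- The desired conclusion on the five degrees. -/
def degGoal (us ua ub uc ud : ℤ) : Bool :=
  let l := [us.natAbs, ua.natAbs, ub.natAbs, uc.natAbs, ud.natAbs]
  l.contains 2754 && l.contains 816 && l.contains 324 && decide l.Nodup

/-- The test of one coded triple. -/
def degT (e : ℕ × List ℕ) : Bool :=
  let s := decR (e.1 / (16384 * 16384))
  let a := decR (e.1 / 16384 % 16384)
  let b := decR (e.1 % 16384)
  allBelow (fun i => !okU s (candU s.2 i) ||
    allBelow (fun j => !okU a (candU a.2 j) ||
      (let us := candU s.2 i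
       let ua := candU a.2 j
       let ub := -1 - us - ua
       !okU b ub || !decide (26163 * (us * ua * ub + (s.1 * s.1 : ℕ) * ua * ub +
          (a.1 * a.1 : ℕ) * us * ub + (b.1 * b.1 : ℕ) * us * ua) = 15200 * (us * ua * ub)) ||
         e.2.all fun p =>
           let c := decR (p / 16384)
           let d := decR (p % 16384)
           allBelow (fun l => !okU c (candU c.2 l) ||
             (let uc := candU c.2 l
              let ud := -us - uc
              decide (ud = 0) || !decide (26163 * ((s.1 * s.1 : ℕ) * uc * ud + (c.1 * c.1 : ℕ) * us * ud +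
                 (d.1 * d.1 : ℕ) * us * uc) = 320 * us * uc * ud) || degGoal us ua ub uc ud)) 112)) 112) 112

theorem degTable_ok : table.all degT = true := by decide +kernel

end CfsgLib.JThree
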