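import Cfsg.Agent.Lib.JThree.Degrees.Check
import Cfsg.Agent.Lib.JThree.Forced

/-!
Three of the degrees of the constituents of the two exceptional functions.
-/

set_option autoImplicit false

namespace CfsgLib.JThree

theorem exists_candU {u : ℤ} {c : ℕ} (hc : c < 128) (h : (128 : ℤ) ∣ u - c) (hu : u.natAbs < 7168) :
    ∃ i < 112, candU c i = u := by
  obtain ⟨m, hm⟩ := h
  refine ⟨(m + 56).toNat, by omega, ?_⟩
  unfold candU; omega

theorem okU_of {r : ℕ × ℕ} {u : ℤ} (m : Member 26163 r u) : okU r u = true := by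
  have h1 := m.z_lt
  have h2 := m.two_le
  have h3 := Nat.mod_eq_zero_of_dvd m.dvd
  have h4 := Int.emod_eq_zero_of_dvd m.cong
  simp only [okU, Bool.and_eq_true, Nat.blt_eq, Nat.ble_eq, decide_eq_true_eq, Nat.beq_eq]
  exact ⟨⟨⟨h1, h2⟩, by simpa using h3⟩, h4⟩

theorem small_of_mul_self {n : ℕ} (h : n * n < 1920 * 26163) : n < 7168 := by nlinarith

theorem degT_spec {e : ℕ × List ℕ} (h : degT e = true) {rS rA rB : ℕ × ℕ}
    (hS : decR (e.1 / (16384 * 16384)) = rS) (hA : decR (e.1 / 16384 % 16384) = rA)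
    (hB : decR (e.1 % 16384) = rB) {us ua ub : ℤ}
    (mS : Member 26163 rS us) (mA : Member 26163 rA ua) (mB : Member 26163 rB ub)
    (hsum : us + ua + ub = -1)
    (hsq : us.natAbs * us.natAbs + ua.natAbs * ua.natAbs + ub.natAbs * ub.natAbs < 1920 * 26163)
    (heq : (26163 : ℤ) * (us * ua * ub + (rS.1 * rS.1 : ℕ) * ua * ub + (rA.1 * rA.1 : ℕ) * us * ub +
      (rB.1 * rB.1 : ℕ) * us * ua) = 15200 * (us * ua * ub))
    {p : ℕ} (hp : p ∈ e.2) {rC rD : ℕ × ℕ} (hC : decR (p / 16384) = rC) (hD : decR (p % 16384) = rD)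
    {uc ud : ℤ} (mC : Member 26163 rC uc) (hd0 : ud ≠ 0) (hsqC : uc.natAbs * uc.natAbs < 1920 * 26163)
    (hsum' : us + uc + ud = 0)
    (heq' : (26163 : ℤ) * ((rS.1 * rS.1 : ℕ) * uc * ud + (rC.1 * rC.1 : ℕ) * us * ud +
      (rD.1 * rD.1 : ℕ) * us * uc) = 320 * us * uc * ud) :
    degGoal us ua ub uc ud = true := by
  have hlt : ∀ n, (decR n).2 < 128 := fun n => Nat.mod_lt _ (by norm_num)
  have lS : rS.2 < 128 := hS ▸ hlt _
  have lA : rA.2 < 128 := hA ▸ hlt _
  have lC : rC.2 < 128 := hC ▸ hlt _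
  obtain ⟨i, hi, ei⟩ := exists_candU lS mS.cong (small_of_mul_self (by omega))
  obtain ⟨j, hj, ej⟩ := exists_candU lA mA.cong (small_of_mul_self (by omega))
  obtain ⟨l, hl, el⟩ := exists_candU lC mC.cong (small_of_mul_self hsqC)
  obtain rfl : ub = -1 - us - ua := by omega
  obtain rfl : ud = -us - uc := by omega
  simp only [degT, hS, hA, hB] at h
  have h1 := allBelow_spec h i hi
  rw [ei, okU_of mS] at h1
  simp only [Bool.not_true, Bool.false_or] at h1
  have h2 := allBelow_spec h1 j hj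
  rw [ej, okU_of mA] at h2
  simp only [okU_of mB, Bool.not_true, Bool.false_or, decide_eq_true heq] at h2
  have h3 := allBelow_spec (List.all_eq_true.1 h2 p hp) l hl
  simp only [hC, hD] at h3
  rw [el, okU_of mC] at h3
  rw [decide_eq_true heq', decide_eq_false hd0] at h3
  simpa using h3

theorem degGoal_swap (us ua ub uc ud : ℤ) :
    degGoal us ua ub uc ud = degGoal us ub ua uc ud ∧ degGoal us ua ub uc ud = degGoal us ua ub ud uc := by
  constructor <;>
  · rw [Bool.eq_iff_iff]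
    simp only [degGoal, Bool.and_eq_true, List.contains_iff_mem, decide_eq_true_eq, List.mem_cons,
      List.not_mem_nil, or_false, List.nodup_cons, not_or, List.nodup_nil, and_true, not_false_eq_true]
    grind

theorem degrees_forced {S A B C D : Mult}
    (h01 : S.m01 + A.m01 + B.m01 = -2 ∧ S.m01 + C.m01 + D.m01 = 0)
    (h4 : S.m4 + A.m4 + B.m4 = -1 ∧ S.m4 + C.m4 + D.m4 = 1)
    (h5 : S.m5 + A.m5 + B.m5 = 0 ∧ S.m5 + C.m5 + D.m5 = -1)
    (h6 : S.m6 + A.m6 + B.m6 = 0 ∧ S.m6 + C.m6 + D.m6 = 0)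
    (hform : ∀ a b c d : ℤ, S.along a b c d ^ 2 + A.along a b c d ^ 2 + B.along a b c d ^ 2 +
      C.along a b c d ^ 2 + D.along a b c d ^ 2 ≤ gramForm a b c d)
    {us ua ub uc ud : ℤ}
    (mS : Member 26163 S.rowS us) (mA : Member 26163 A.rowF ua) (mB : Member 26163 B.rowF ub)
    (mC : Member 26163 C.rowG uc) (mD : Member 26163 D.rowG ud)
    (hsum : us + ua + ub = -1) (hsum' : us + uc + ud = 0)
    (hsq : us.natAbs * us.natAbs + ua.natAbs * ua.natAbs + ub.natAbs * ub.natAbs < 1920 * 26163)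
    (hsqC : uc.natAbs * uc.natAbs < 1920 * 26163) (hsqD : ud.natAbs * ud.natAbs < 1920 * 26163)
    (heq : (26163 : ℤ) * (us * ua * ub + (S.rowS.1 * S.rowS.1 : ℕ) * ua * ub +
      (A.rowF.1 * A.rowF.1 : ℕ) * us * ub + (B.rowF.1 * B.rowF.1 : ℕ) * us * ua) =
      15200 * (us * ua * ub))
    (heq' : (26163 : ℤ) * ((S.rowS.1 * S.rowS.1 : ℕ) * uc * ud + (C.rowG.1 * C.rowG.1 : ℕ) * us * ud +
      (D.rowG.1 * D.rowG.1 : ℕ) * us * uc) = 320 * us * uc * ud) :
    degGoal us ua ub uc ud = true := by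
  have hT := inTable_of h01 h4 h5 h6 hform
  have n01 := hform 1 0 0 0
  have n4 := hform 0 1 0 0
  have n5 := hform 0 0 1 0
  have n6 := hform 0 0 0 1
  simp only [Mult.along, gramForm, one_mul, zero_mul, add_zero, zero_add, mul_one, mul_zero,
    sub_zero] at n01 n4 n5 n6
  obtain ⟨r0s, r0a, r0b, r0c, r0d⟩ := five_range n01 le_rfl
  obtain ⟨r1s, r1a, r1b, r1c, r1d⟩ := five_range n4 (by norm_num)
  obtain ⟨r2s, r2a, r2b, r2c, r2d⟩ := five_range n5 (by norm_num)
  obtain ⟨r3s, r3a, r3b, r3c, r3d⟩ := five_range n6 (by norm_num)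
  have c1 : ∀ {m : ℤ}, (-2 ≤ m ∧ m ≤ 2) → ((sh m : ℕ) : ℤ) - 2 = m := fun h => by
    simp only [sh]; omega
  simp only [inTable, rowS, rowA, rowB, rowC, rowD, colOf, c1 r0s, c1 r0a, c1 r0b, c1 r0c, c1 r0d,
    c1 r1s, c1 r1a, c1 r1b, c1 r1c, c1 r1d, c1 r2s, c1 r2a, c1 r2b, c1 r2c, c1 r2d,
    c1 r3s, c1 r3a, c1 r3b, c1 r3c, c1 r3d, Bool.and_eq_true, List.any_eq_true] at hT
  rw [show mkRow S.m01 1 1 S.m4 S.m5 S.m6 = S.rowS from rfl,
    show mkRow A.m01 0 1 A.m4 A.m5 A.m6 = A.rowF from rfl,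
    show mkRow B.m01 0 1 B.m4 B.m5 B.m6 = B.rowF from rfl,
    show mkRow C.m01 1 0 C.m4 C.m5 C.m6 = C.rowG from rfl,
    show mkRow D.m01 1 0 D.m4 D.m5 D.m6 = D.rowG from rfl] at hT
  obtain ⟨hkey, q, hq, hqp⟩ := hT
  have hkey' := Nat.eq_of_beq_eq_true hkey
  have hqp' := Nat.eq_of_beq_eq_true hqp
  have lA : encR A.rowF < 16384 := mkRow_enc r0a (by norm_num) (by norm_num) r1a r2a r3a
  have lB : encR B.rowF < 16384 := mkRow_enc r0b (by norm_num) (by norm_num) r1b r2b r3b
  have lC : encR C.rowG < 16384 := mkRow_enc r0c (by norm_num) (by norm_num) r1c r2c r3c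
  have lD : encR D.rowG < 16384 := mkRow_enc r0d (by norm_num) (by norm_num) r1d r2d r3d
  generalize hE : table.getD (findI ((encR S.rowS * 16384 + min (encR A.rowF) (encR B.rowF)) * 16384 +
    max (encR A.rowF) (encR B.rowF))) (0, []) = e at hkey' hq
  have he : e ∈ table := by
    rw [List.getD_eq_getElem?_getD] at hE
    rcases hg : table[findI ((encR S.rowS * 16384 + min (encR A.rowF) (encR B.rowF)) * 16384 +
      max (encR A.rowF) (encR B.rowF))]? with _ | e'
    · rw [hg, Option.getD_none] at hE; subst hE; simp at hq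
    · rw [hg, Option.getD_some] at hE; subst hE; exact List.mem_of_getElem? hg
  have hs := List.all_eq_true.1 degTable_ok e he
  have qS : decR (encR S.rowS) = S.rowS := decR_encR (mkRow_snd ..)
  have qA : decR (encR A.rowF) = A.rowF := decR_encR (mkRow_snd ..)
  have qB : decR (encR B.rowF) = B.rowF := decR_encR (mkRow_snd ..)
  have qC : decR (encR C.rowG) = C.rowG := decR_encR (mkRow_snd ..)
  have qD : decR (encR D.rowG) = D.rowG := decR_encR (mkRow_snd ..)
  obtain ⟨k1, k2, k3⟩ := decode (a := encR S.rowS)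
    (lt_of_le_of_lt (min_le_left _ (encR B.rowF)) lA) (max_lt lA lB)
  have dS : decR (e.1 / (16384 * 16384)) = S.rowS := by rw [hkey', k1, qS]
  have d1 : decR (e.1 / 16384 % 16384) = decR (min (encR A.rowF) (encR B.rowF)) := by rw [hkey', k2]
  have d2 : decR (e.1 % 16384) = decR (max (encR A.rowF) (encR B.rowF)) := by rw [hkey', k3]
  obtain ⟨e1, e2⟩ := decode_pair (b := min (encR C.rowG) (encR D.rowG)) (max_lt lC lD)
  rw [← hqp'] at e1 e2
  have hd0 : ud ≠ 0 := fun h => by have := mD.two_le; omega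
  have hc0 : uc ≠ 0 := fun h => by have := mC.two_le; omega
  rcases le_total (encR C.rowG) (encR D.rowG) with hcd | hcd <;>
    rcases le_total (encR A.rowF) (encR B.rowF) with h | h
  · rw [min_eq_left h, qA] at d1; rw [max_eq_right h, qB] at d2
    rw [min_eq_left hcd] at e1; rw [max_eq_right hcd] at e2
    exact degT_spec hs dS d1 d2 mS mA mB hsum hsq heq hq (by rw [e1, qC]) (by rw [e2, qD]) mC hd0 hsqC
      hsum' heq'
  · rw [min_eq_right h, qB] at d1; rw [max_eq_left h, qA] at d2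
    rw [min_eq_left hcd] at e1; rw [max_eq_right hcd] at e2
    rw [(degGoal_swap us ua ub uc ud).1]
    exact degT_spec hs dS d1 d2 mS mB mA (by omega) (by omega) (by linear_combination heq) hq
      (by rw [e1, qC]) (by rw [e2, qD]) mC hd0 hsqC hsum' heq'
  · rw [min_eq_left h, qA] at d1; rw [max_eq_right h, qB] at d2
    rw [min_eq_right hcd] at e1; rw [max_eq_left hcd] at e2
    rw [(degGoal_swap us ua ub uc ud).2]
    exact degT_spec hs dS d1 d2 mS mA mB hsum hsq heq hq (by rw [e1, qD]) (by rw [e2, qC]) mD hc0 hsqD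
      (by omega) (by linear_combination heq')
  · rw [min_eq_right h, qB] at d1; rw [max_eq_left h, qA] at d2
    rw [min_eq_right hcd] at e1; rw [max_eq_left hcd] at e2
    rw [(degGoal_swap us ua ub uc ud).2, (degGoal_swap us ua ub ud uc).1]
    exact degT_spec hs dS d1 d2 mS mB mA (by omega) (by omega) (by linear_combination heq) hq
      (by rw [e1, qD]) (by rw [e2, qC]) mD hc0 hsqD (by omega) (by linear_combination heq')

end CfsgLib.JThree
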